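import Cfsg.Agent.H816.BT.Sch
import Cfsg.Agent.H165.Vr.Var
import Cfsg.Agent.H578.BM.Mod19

/-!
# The Baby Monster has an irreducible character of degree `356054375` (helper816)

`R = Sym³ V - 2 V - ψ₁ - ψ₂`, where `V, ψ₁, ψ₂` are the irreducible characters of degrees `4371, 63532485,
13508418144`, is a character of degree `356054375` on which the class sum of the transpositions has variance zero.
-/

set_option autoImplicit false
set_option linter.constructorNameAsVariable false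
set_option linter.unusedSectionVars false

namespace Cfsg.Agent.H816.BT.Main

open Cfsg Cfsg.Agent.Characters.Core
open Cfsg.Agent.BabyM.Model Cfsg.Agent.BabyM.Inst Cfsg.Agent.H995.BSch Cfsg.Agent.H995.BSchVal
  Cfsg.Agent.H877.BSgn Cfsg.Agent.H816.IMEig Cfsg.Agent.H816.IMEig.Col Cfsg.Agent.H816.BT.Sgn
  Cfsg.Agent.H816.BT.Abs Cfsg.Agent.H816.BT.Ops Cfsg.Agent.H816.BT.Pw Cfsg.Agent.H816.BT.Sch
open scoped BigOperators ComplexConjugate

universe u

/-- Splitting off a constituent. -/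
theorem isCharacter_sub {G : Type u} [Group G] [Fintype G] {Ψ ψ : G → ℂ} (hΨ : IsCharacter G Ψ)
    (hψ : IsIrrCharacter G ψ) (h : classInner Ψ ψ ≠ 0) : IsCharacter G (Ψ - ψ) := by
  classical
  have := finite_irr (G := G)
  have := Fintype.ofFinite (IrrCharacter G)
  obtain ⟨m, hm⟩ := exists_nat_comb hΨ
  set χ : IrrCharacter G := ⟨ψ, hψ⟩ with hχ
  have h1 : classInner Ψ ψ = m χ := by
    rw [hm]; exact classInner_sum_nsmul_irr m χ
  have h2 : m χ ≠ 0 := by
    intro h0
    rw [h1, h0, Nat.cast_zero] at h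
    exact h rfl
  refine isCharacter_iff.2 ⟨fun ξ => if ξ = χ then m ξ - 1 else m ξ, ?_⟩
  have h3 : ∀ ξ : IrrCharacter G, m ξ • (ξ : G → ℂ) =
      (if ξ = χ then m ξ - 1 else m ξ) • (ξ : G → ℂ) + if ξ = χ then ψ else 0 := by
    intro ξ
    by_cases e : ξ = χ
    · rw [if_pos e, if_pos e, e]
      obtain ⟨k, hk⟩ := Nat.exists_eq_succ_of_ne_zero h2
      rw [hk, Nat.succ_sub_one, succ_nsmul]
    · rw [if_neg e, if_neg e, add_zero]
  rw [hm, Finset.sum_congr rfl fun ξ _ => h3 ξ, Finset.sum_add_distrib, Finset.sum_ite_eq']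
  simp

noncomputable local instance instFintypeX : Fintype (X0 M) := Fintype.ofFinite _

noncomputable local instance instDecX : DecidableEq (X0 M) := Classical.decEq _

/-- The character `R`. -/
noncomputable def R : ↥M.G → ℂ := sym3 (ch v0) - ch v0 - ch v0 - ch v1 - ch v2

theorem ne_of_one {f g : ↥M.G → ℂ} {a b : ℕ} (hf : f 1 = a) (hg : g 1 = b) (hab : a ≠ b) : f ≠ g := by
  rintro rfl
  exact hab (by exact_mod_cast hf.symm.trans hg)

theorem isCharR : IsCharacter ↥M.G R := by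
  have := Fintype.ofFinite ↥M.G
  obtain ⟨n, hn, h0⟩ := inner_0
  have i0 := ch_irr dat0
  have i1 := ch_irr dat1
  have i2 := ch_irr dat2
  have n01 : ch v0 ≠ ch v1 := ne_of_one (ch_one dat0) (ch_one dat1) (by norm_num)
  have n02 : ch v0 ≠ ch v2 := ne_of_one (ch_one dat0) (ch_one dat2) (by norm_num)
  have n12 : ch v1 ≠ ch v2 := ne_of_one (ch_one dat1) (ch_one dat2) (by norm_num)
  have c1 : IsCharacter ↥M.G (sym3 (ch v0) - ch v0) := isCharacter_sub isChar i0 (by
    rw [h0]; exact_mod_cast (by omega : n ≠ 0))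
  have c2 : IsCharacter ↥M.G (sym3 (ch v0) - ch v0 - ch v0) := isCharacter_sub c1 i0 (by
    rw [classInner_sub_left, h0, classInner_irr_self i0, sub_ne_zero]
    exact_mod_cast (by omega : n ≠ 1))
  have c3 : IsCharacter ↥M.G (sym3 (ch v0) - ch v0 - ch v0 - ch v1) := isCharacter_sub c2 i1 (by
    rw [classInner_sub_left, classInner_sub_left, classInner_irr_ne i0 i1 n01, sub_zero, sub_zero]
    exact inner_1)
  exact isCharacter_sub c3 i2 (by
    rw [classInner_sub_left, classInner_sub_left, classInner_sub_left, classInner_irr_ne i0 i2 n02,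
      classInner_irr_ne i1 i2 n12, sub_zero, sub_zero, sub_zero]
    exact inner_2)

theorem R_one : R 1 = 356054375 := by
  show sym3 (ch v0) 1 - ch v0 1 - ch v0 1 - ch v1 1 - ch v2 1 = _
  rw [sym3_one f_0, ch_one dat0, ch_one dat1, ch_one dat2]
  norm_num

theorem R_t (x : X0 M) : R (tX x) = -1901977 := by
  show sym3 (ch v0) (tX x) - ch v0 (tX x) - ch v0 (tX x) - ch v1 (tX x) - ch v2 (tX x) = _
  rw [sym3_t f_0, t_0, t_1, t_2]
  norm_num

theorem htr (x y : X0 M) : ∃ g : ↥M.G, g • x = y := isCol.exists_smul x y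

theorem cardX : (Fintype.card (X0 M) : ℂ) = 27143910000 := by
  rw [← Nat.card_eq_fintype_card, card_X0 BabyM.Instance.all]
  norm_num

/-- The second moment of an irreducible character. -/
theorem mom {θ : ℂ} {ω : Fin 8 → ℂ} {q : Fin 8 → ℚ} {f : ℕ} {s : ℚ} (h : Dat θ ω q f s) (x : X0 M) {v : ℂ}
    (hv : ch ω (tX x) = v) : (f : ℂ) * ∑ y, ch ω (tX y * tX x) = 27143910000 * v ^ 2 := by
  have := Fintype.ofFinite ↥M.G
  have h1 := H165.Vr.sum_act_irr htr tX_smul x (ch_irr h)
  rw [ch_one h, hv, cardX] at h1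
  exact h1

theorem var (x : X0 M) : R 1 * ∑ y, R (tX y * tX x) = (Fintype.card (X0 M) : ℂ) * R (tX x) ^ 2 := by
  have e : ∑ y, R (tX y * tX x) = ∑ y, sym3 (ch v0) (tX y * tX x) - 2 * ∑ y, ch v0 (tX y * tX x) -
      ∑ y, ch v1 (tX y * tX x) - ∑ y, ch v2 (tX y * tX x) := by
    rw [two_mul, ← sub_sub, ← Finset.sum_sub_distrib, ← Finset.sum_sub_distrib, ← Finset.sum_sub_distrib,
      ← Finset.sum_sub_distrib]
    rfl
  have m0 := mom dat0 x (t_0 x)
  have m1 := mom dat1 x (t_1 x)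
  have m2 := mom dat2 x (t_2 x)
  have e0 : ∑ y, ch v0 (tX y * tX x) = 27143910000 * (-493) ^ 2 / 4371 := by
    rw [eq_div_iff (by norm_num), mul_comm]; exact_mod_cast m0
  have e1 : ∑ y, ch v1 (tX y * tX x) = 27143910000 * (-468027) ^ 2 / 63532485 := by
    rw [eq_div_iff (by norm_num), mul_comm]; exact_mod_cast m1
  have e2 : ∑ y, ch v2 (tX y * tX x) = 27143910000 * (-18677152) ^ 2 / 13508418144 := by
    rw [eq_div_iff (by norm_num), mul_comm]; exact_mod_cast m2
  rw [e, sum_sym3 f_0, Cfsg.Agent.H816.BT.Pw.n6, e0, e1, e2, cardX, R_one, R_t]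
  push_cast
  norm_num

/-- **The Baby Monster has an irreducible character of degree `356054375`.** -/
theorem model : ∃ χ : IrrCharacter ↥M.G, charDegree (χ : ↥M.G → ℂ) = 356054375 := by
  have := Fintype.ofFinite ↥M.G
  let x : X0 M := QuotientGroup.mk 1
  refine H578.BM.exists_of_char (S := ↥M.G) ⟨BM.KHAll.iso.symm⟩ (t := tX x) (by rw [sq, tX_sq]) isCharR R_one (R_t x) ?_
  intro ψ hψ hc
  exact H165.Vr.ratio_of_var_act htr tX_smul isCharR (by rw [tX_inv]) (var x) hψ hc

/-- **The Baby Monster has an irreducible character of degree `356054375`.** -/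
theorem exists_deg {S : Type u} [Group S] (h : Spor.IsoB S) :
    ∃ χ : IrrCharacter S, charDegree (χ : S → ℂ) = 356054375 := by
  obtain ⟨e⟩ := h
  obtain ⟨χ, h1⟩ := model
  let f : S ≃* ↥M.G := e.trans Cfsg.Agent.BM.KHAll.iso
  have h3 : (χ : ↥M.G → ℂ) 1 = ((356054375 : ℕ) : ℂ) := by
    rw [Blocks.Basic.irr_one_eq_charDegree χ.2, h1]
  have h2 : ((χ : ↥M.G → ℂ) ∘ f.toMonoidHom) 1 = ((356054375 : ℕ) : ℂ) := by
    rw [Function.comp_apply, map_one, h3]
  exact ⟨⟨(χ : ↥M.G → ℂ) ∘ f.toMonoidHom, isIrr_comp f.toMonoidHom f.surjective χ.2⟩,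
    H670.PSing.charDegree_eq_of h2⟩

end Cfsg.Agent.H816.BT.Main
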