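import Cfsg.Agent.H740.K4.Scheme
import Mathlib.LinearAlgebra.Matrix.DotProduct

/-!
# Operator identities from a reproducing kernel (helper816)

`K` is a rational invariant kernel on the `G`-set `X` with `∑ a, K a x * K a y = s * K x y`.  If the operator of the
element `t` is the combination `α + β P_x + γ ∑ P_z` (checked by the vanishing of a norm), then the traces
`V (t⁻¹ h) = ∑ b, K b (t⁻¹ h b)` follow for all `h`.
-/

set_option autoImplicit false

namespace Cfsg.Agent.H816.BT.Abs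

open scoped BigOperators
open Matrix

universe u v

variable {G : Type u} [Group G] {X : Type v} [Fintype X] [MulAction G X]

/-- The operator of `g`. -/
def Mg (K : X → X → ℚ) (g : G) : X × X → ℚ := fun p => K p.1 (g • p.2)

/-- The projection to the vector of `z`. -/
def Qz (K : X → X → ℚ) (z : X) : X × X → ℚ := fun p => K p.1 z * K z p.2

/-- The trace of `g`. -/
def Vv (K : X → X → ℚ) (g : G) : ℚ := ∑ b, K b (g • b)

variable {K : X → X → ℚ} (hs : ∀ x y, K x y = K y x) (hi : ∀ (g : G) (x y : X), K (g • x) (g • y) = K x y) {s : ℚ}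
  (hr : ∀ x y, ∑ a, K a x * K a y = s * K x y)

include hi hr in
theorem MM (g h : G) : Mg K g ⬝ᵥ Mg K h = s * Vv K (g⁻¹ * h) := by
  unfold dotProduct Mg Vv
  rw [Fintype.sum_prod_type_right, Finset.mul_sum]
  refine Finset.sum_congr rfl fun b _ => ?_
  dsimp only
  rw [hr]
  congr 1
  have := hi g⁻¹ (g • b) (h • b)
  rw [inv_smul_smul] at this
  rw [← this, mul_smul]

include hs hi hr in
theorem MQ (g : G) (z : X) : Mg K g ⬝ᵥ Qz K z = s ^ 2 * K z (g • z) := by
  unfold dotProduct Mg Qz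
  rw [Fintype.sum_prod_type_right]
  have h1 : ∀ b, ∑ a, K a (g • b) * (K a z * K z b) = s * (K b (g⁻¹ • z) * K b z) := by
    intro b
    have h2 : ∀ a, K a (g • b) * (K a z * K z b) = (K a (g • b) * K a z) * K z b := fun a => by ring
    simp only [h2]
    rw [← Finset.sum_mul, hr]
    have := hi g⁻¹ (g • b) z
    rw [inv_smul_smul] at this
    rw [this, hs z b]
    ring
  simp only [h1]
  rw [← Finset.mul_sum, hr]
  have h3 := hi g (g⁻¹ • z) z
  rw [smul_inv_smul] at h3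
  rw [← h3]
  ring

include hs hr in
theorem QQ (z w : X) : Qz K z ⬝ᵥ Qz K w = s ^ 2 * K z w ^ 2 := by
  unfold dotProduct Qz
  rw [Fintype.sum_prod_type_right]
  have h1 : ∀ b, ∑ a, K a z * K z b * (K a w * K w b) = s * K z w * (K b z * K b w) := by
    intro b
    have h2 : ∀ a, K a z * K z b * (K a w * K w b) = (K a z * K a w) * (K z b * K w b) := fun a => by ring
    simp only [h2]
    rw [← Finset.sum_mul, hr, hs z b, hs w b]
  simp only [h1]
  rw [← Finset.mul_sum, hr]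
  ring

include hs hi hr in
/-- **The operator identity.** -/
theorem main (t : G) (x : X) (Z : Finset X) {α β γ d τ n ε m : ℚ} (hd : Vv K (1 : G) = s * d)
    (ht : Vv K t⁻¹ = s * τ) (hx : K x (t • x) = 1) (hxx : K x x = 1) (hZ : ∑ z ∈ Z, K z (t • z) = n)
    (hZ' : ∑ z ∈ Z, K z z = n) (hxz : ∑ z ∈ Z, K x z ^ 2 = n * ε) (hzz : ∑ z ∈ Z, ∑ w ∈ Z, K z w ^ 2 = n * m)
    (hN : d + α ^ 2 * d + β ^ 2 + γ ^ 2 * (n * m) - 2 * α * τ - 2 * β - 2 * γ * n + 2 * α * β + 2 * α * γ * n +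
      2 * β * γ * (n * ε) = 0) (h : G) :
    s * Vv K (t⁻¹ * h) = s * (α * Vv K h) + s ^ 2 * (β * K x (h • x) + γ * ∑ z ∈ Z, K z (h • z)) := by
  set S : X × X → ℚ := ∑ z ∈ Z, Qz K z with hS
  have e1 : Mg K t ⬝ᵥ Mg K t = s ^ 2 * d := by
    rw [MM hi hr, inv_mul_cancel, hd]; ring
  have e2 : Mg K (1 : G) ⬝ᵥ Mg K (1 : G) = s ^ 2 * d := by
    rw [MM hi hr, inv_mul_cancel, hd]; ring
  have e3 : Mg K t ⬝ᵥ Mg K (1 : G) = s ^ 2 * τ := by
    rw [MM hi hr, mul_one, ht]; ring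
  have e4 : Mg K t ⬝ᵥ Qz K x = s ^ 2 := by
    rw [MQ hs hi hr, hx]; ring
  have e5 : Mg K (1 : G) ⬝ᵥ Qz K x = s ^ 2 := by
    rw [MQ hs hi hr, one_smul, hxx]; ring
  have e6 : Mg K t ⬝ᵥ S = s ^ 2 * n := by
    rw [hS, dotProduct_sum, ← hZ, Finset.mul_sum]
    exact Finset.sum_congr rfl fun z _ => MQ hs hi hr t z
  have e7 : Mg K (1 : G) ⬝ᵥ S = s ^ 2 * n := by
    rw [hS, dotProduct_sum, ← hZ', Finset.mul_sum]
    refine Finset.sum_congr rfl fun z _ => ?_
    rw [MQ hs hi hr, one_smul]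
  have e8 : Qz K x ⬝ᵥ Qz K x = s ^ 2 := by
    rw [QQ hs hr, hxx]; ring
  have e9 : Qz K x ⬝ᵥ S = s ^ 2 * (n * ε) := by
    rw [hS, dotProduct_sum, ← hxz, Finset.mul_sum]
    exact Finset.sum_congr rfl fun z _ => QQ hs hr x z
  have e10 : S ⬝ᵥ S = s ^ 2 * (n * m) := by
    rw [← hzz, Finset.mul_sum]
    conv_lhs => rw [hS, sum_dotProduct]
    refine Finset.sum_congr rfl fun z _ => ?_
    rw [← hS, hS, dotProduct_sum, Finset.mul_sum]
    exact Finset.sum_congr rfl fun w _ => QQ hs hr z w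
  have key : (Mg K t - (α • Mg K (1 : G) + β • Qz K x + γ • S)) ⬝ᵥ
      (Mg K t - (α • Mg K (1 : G) + β • Qz K x + γ • S)) = 0 := by
    simp only [sub_dotProduct, dotProduct_sub, add_dotProduct, dotProduct_add, smul_dotProduct, dotProduct_smul,
      smul_eq_mul]
    rw [dotProduct_comm (Mg K (1 : G)) (Mg K t), dotProduct_comm (Qz K x) (Mg K t), dotProduct_comm S (Mg K t),
      dotProduct_comm (Qz K x) (Mg K (1 : G)), dotProduct_comm S (Mg K (1 : G)), dotProduct_comm S (Qz K x),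
      e1, e2, e3, e4, e5, e6, e7, e8, e9, e10]
    linear_combination s ^ 2 * hN
  have h0 := dotProduct_self_eq_zero.1 key
  have h1 : Mg K t ⬝ᵥ Mg K h = (α • Mg K (1 : G) + β • Qz K x + γ • S) ⬝ᵥ Mg K h := by
    rw [sub_eq_zero.1 h0]
  rw [MM hi hr, add_dotProduct, add_dotProduct, smul_dotProduct, smul_dotProduct, smul_dotProduct, MM hi hr, inv_one,
    one_mul, dotProduct_comm (Qz K x), MQ hs hi hr, dotProduct_comm S, hS, dotProduct_sum] at h1
  have h2 : ∑ z ∈ Z, Mg K h ⬝ᵥ Qz K z = s ^ 2 * ∑ z ∈ Z, K z (h • z) := by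
    rw [Finset.mul_sum]
    exact Finset.sum_congr rfl fun z _ => MQ hs hi hr h z
  rw [h2] at h1
  simp only [smul_eq_mul] at h1
  rw [h1]
  ring

end Cfsg.Agent.H816.BT.Abs
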