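import Cfsg.Agent.H877.BSgnInst

/-!
# Kernel checks for the products of two transpositions of the Baby Monster (helper816)
-/

set_option autoImplicit false
set_option linter.constructorNameAsVariable false

namespace Cfsg.Agent.H816.BT.Chk

open Cfsg.Agent.Lib.PermNet Cfsg.Agent.Monster.VecEngine Cfsg.Agent.Monster.VecSpace
open Cfsg.Agent.BabyM.Conc Cfsg.Agent.BabyM.TransInv Cfsg.Agent.BabyM.Inst Cfsg.Agent.BabyM.InstVec
  Cfsg.Agent.BabyM.InstZ Cfsg.Agent.BabyM.TransCover Cfsg.Agent.BabyM.TransData Cfsg.Agent.BabyM.TransOrd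
  Cfsg.Agent.BabyM.TransFields Cfsg.Agent.H995.BSch Cfsg.Agent.H995.BSchOrb Cfsg.Agent.H995.BSchVal
open Cfsg.Agent.BabyM.Model

/-- A pair of colour `3` with the base axis. -/
def v3 : List Ltr := [.p6, .xi, .p6, .xi, .taui, .xii, .p, .xii, .p]

/-- A pair of colour `4` with the base axis. -/
def v4 : List Ltr := [.p8, .xi, .p6]

theorem c3 : cchk v3 dv0 3 1 0 0 = true := by decide +kernel

theorem c3t : cchk (tw v3) dv0 3 1 0 0 = true := by decide +kernel

theorem c4t : cchk (tw v4) dv0 1 (-4) 0 0 = true := by decide +kernel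

/-- `t₀ (W v3 d₀) = W (tw v3) d₀` up to sign. -/
theorem c3b : check ((v3 ++ t0w).map Ltr.prog) dv0 ((tw v3).map Ltr.prog) dv0 = true := by decide +kernel

end Cfsg.Agent.H816.BT.Chk
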