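import Cfsg.Agent.H877.BSgnDeg

/-!
# The even spherical functions of degree `1`, `96255`, `9458750` in the signed scheme of the Baby Monster (helper816)
-/

set_option autoImplicit false
set_option linter.constructorNameAsVariable false

namespace Cfsg.Agent.H816.BT.Even

open Cfsg.Agent.BabyM.Inst Cfsg.Agent.H816.IMEig Cfsg.Agent.H816.IMEig.Col Cfsg.Agent.H877.BSgn

/-- The spherical function of degree `1`. -/
noncomputable def e1 : Fin 8 → ℂ := ![1, 1, 1, 1, 1, 1, 1, 1]

theorem eig_e1 : Eig (3 : Fin 8) 0 t8 (3968055) e1 where
  one := rfl
  eig := by
    intro u
    rw [kk3]
    fin_cases u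
    all_goals
      simp only [Fin.sum_univ_eight]
      simp [t8, e1]
      try norm_num
  uniq := by
    intro φ h
    rw [kk3] at h
    have h0 := h 0
    have h1 := h 1
    have h2 := h 2
    have h3 := h 3
    have h4 := h 4
    have h5 := h 5
    have h6 := h 6
    have h7 := h 7
    simp only [Fin.sum_univ_eight] at h0 h1 h2 h3 h4 h5 h6 h7
    simp [t8] at h0 h1 h2 h3 h4 h5 h6 h7
    intro u
    fin_cases u
    · simp [e1]
    · simp [e1]
      linear_combination (645448481/645448320) * h0 + (-645448481/645448320) * h1 + (-23/365882061916800) * h2 + (23/365882061916800) * h3 + (1/20489395467340800) * h4 + (-1/20489395467340800) * h5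
    · simp [e1]
      linear_combination (645448481/645448320) * h0 + (-161/645448320) * h1 + (-23/365882061916800) * h2 + (23/365882061916800) * h3 + (1/20489395467340800) * h4 + (-1/20489395467340800) * h5
    · simp [e1]
      linear_combination (1) * h0
    · simp [e1]
      linear_combination (399734720911/399734620160) * h0 + (1119/399734620160) * h1 + (373/528722986066329600) * h2 + (14393/226595565456998400) * h3 + (-10247/191086707434795827200) * h4 + (-9847/1082824675463843020800) * h5
    · simp [e1]
      linear_combination (39573737377853/39573727395840) * h0 + (103117/39573727395840) * h1 + (14731/22432960980242841600) * h2 + (9982013/157030726861699891200) * h3 + (12771313/321598928612761377177600) * h4 + (-247681/2418037057238807347200) * h5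
    · simp [e1]
      linear_combination (89040909104281/89040886640640) * h0 + (253369/89040886640640) * h1 + (253369/353319135438824755200) * h2 + (22463641/353319135438824755200) * h3 + (6571/108713580135023001600) * h4 + (16447/1413276541755299020800) * h5 + (-1/180214963568640) * h6
    · simp [e1]
      linear_combination (89040909104281/89040886640640) * h0 + (253369/89040886640640) * h1 + (253369/353319135438824755200) * h2 + (22463641/353319135438824755200) * h3 + (6571/108713580135023001600) * h4 + (16447/1413276541755299020800) * h5

/-- The spherical function of degree `96255`. -/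
noncomputable def e2 : Fin 8 → ℂ := ![1, 1, 23/399, 23/399, 13/2128, 13/2128, -7/228, -1/798]

theorem eig_e2 : Eig (3 : Fin 8) 0 t8 (228735) e2 where
  one := rfl
  eig := by
    intro u
    rw [kk3]
    fin_cases u
    all_goals
      simp only [Fin.sum_univ_eight]
      simp [t8, e2]
      try norm_num
  uniq := by
    intro φ h
    rw [kk3] at h
    have h0 := h 0
    have h1 := h 1
    have h2 := h 2
    have h3 := h 3
    have h4 := h 4
    have h5 := h 5
    have h6 := h 6
    have h7 := h 7
    simp only [Fin.sum_univ_eight] at h0 h1 h2 h3 h4 h5 h6 h7
    simp [t8] at h0 h1 h2 h3 h4 h5 h6 h7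
    intro u
    fin_cases u
    · simp [e2]
    · simp [e2]
      linear_combination (14578357/3334359600000) * h0 + (-14578357/3334359600000) * h1 + (-167/10003078800000) * h2 + (167/10003078800000) * h3 + (1/13337438400000) * h4 + (-1/13337438400000) * h5
    · simp [e2]
      linear_combination (335302211/1330409480400000) * h0 + (-167/10003078800000) * h1 + (-3841/3991228441200000) * h2 + (3841/3991228441200000) * h3 + (23/5321637921600000) * h4 + (-23/5321637921600000) * h5
    · simp [e2]
      linear_combination (1/3968055) * h0
    · simp [e2]
      linear_combination (29312581471/1097439998054400000) * h0 + (1121/2750476185600000) * h1 + (1357/57759999897600000) * h2 + (132967/1097439998054400000) * h3 + (-19451/160539794001100800000) * h4 + (-443/22034873686425600000) * h5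
    · simp [e2]
      linear_combination (87937991261/3292319994163200000) * h0 + (8233/24754285670400000) * h1 + (189359/9876959982489600000) * h2 + (1239391/9876959982489600000) * h3 + (1476413/3371335674023116800000) * h4 + (-1952663/3371335674023116800000) * h5
    · simp [e2]
      linear_combination (-360596417839/2686316039193600000) * h0 + (-2820097/1838005711027200000) * h1 + (-9266033/104766325528550400000) * h2 + (-62965217/104766325528550400000) * h3 + (13769/16433933416243200000) * h4 + (877177/279376868076134400000) * h5 + (-1/7355712798720) * h6
    · simp [e2]
      linear_combination (-51513773977/9402106137177600000) * h0 + (-57553/919002855513600000) * h1 + (-1323719/366682139349926400000) * h2 + (-8995031/366682139349926400000) * h3 + (281/8216966708121600000) * h4 + (125311/977819038266470400000) * h5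

/-- The spherical function of degree `9458750`. -/
noncomputable def e3 : Fin 8 → ℂ := ![1, 1, 29/2261, 29/2261, 61/1157632, 61/1157632, 7/1216, -1/36176]

theorem eig_e3 : Eig (3 : Fin 8) 0 t8 (50895) e3 where
  one := rfl
  eig := by
    intro u
    rw [kk3]
    fin_cases u
    all_goals
      simp only [Fin.sum_univ_eight]
      simp [t8, e3]
      try norm_num
  uniq := by
    intro φ h
    rw [kk3] at h
    have h0 := h 0
    have h1 := h 1
    have h2 := h 2
    have h3 := h 3
    have h4 := h 4
    have h5 := h 5
    have h6 := h 6
    have h7 := h 7
    simp only [Fin.sum_univ_eight] at h0 h1 h2 h3 h4 h5 h6 h7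
    simp [t8] at h0 h1 h2 h3 h4 h5 h6 h7
    intro u
    fin_cases u
    · simp [e3]
    · simp [e3]
      linear_combination (205571/10452499200) * h0 + (-205571/10452499200) * h1 + (-43/177692486400) * h2 + (43/177692486400) * h3 + (1/710769945600) * h4 + (-1/710769945600) * h5
    · simp [e3]
      linear_combination (5961559/23633100691200) * h0 + (-43/177692486400) * h1 + (-1247/401762711750400) * h2 + (1247/401762711750400) * h3 + (29/1607050847001600) * h4 + (-29/1607050847001600) * h5
    · simp [e3]
      linear_combination (1/3968055) * h0
    · simp [e3]
      linear_combination (1272511/1222237126656000) * h0 + (19/3063250944000) * h1 + (29/364526862336000) * h2 + (1543/20778031153152000) * h3 + (-4679/10638351950413824000) * h4 + (79/272778255138816000) * h5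
    · simp [e3]
      linear_combination (126148829/121001475538944000) * h0 + (4363/909785530368000) * h1 + (126527/2057025084162048000) * h2 + (189877/2057025084162048000) * h3 + (383099/1053196843090968576000) * h4 + (-541301/1053196843090968576000) * h5
    · simp [e3]
      linear_combination (129806719/1143921512448000) * h0 + (1421/5473308672000) * h1 + (5887/1767878701056000) * h2 + (91847/19446665711616000) * h3 + (-4333/311146651385856000) * h4 + (-623/28286059216896000) * h5 + (1/865377976320) * h6
    · simp [e3]
      linear_combination (-18543817/34031664995328000) * h0 + (-29/23261561856000) * h1 + (-841/52594391356416000) * h2 + (-13121/578538304920576000) * h3 + (619/9256612878729216000) * h4 + (89/841510261702656000) * h5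

end Cfsg.Agent.H816.BT.Even
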