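import Cfsg.Agent.H816.BT.Sgn
import Cfsg.Agent.H816.BT.Abs
import Cfsg.Agent.H877.BSgnDeg

/-!
# The values of the character of degree `4371` of the Baby Monster on the products of two transpositions (helper816)
-/

set_option autoImplicit false
set_option linter.constructorNameAsVariable false
set_option linter.unusedSectionVars false

namespace Cfsg.Agent.H816.BT.Ops

open Cfsg.Agent.BabyM.Model Cfsg.Agent.BabyM.Inst Cfsg.Agent.H995.BSch Cfsg.Agent.H995.BSchVal
  Cfsg.Agent.H877.BSgn Cfsg.Agent.H816.IMEig Cfsg.Agent.H816.IMEig.Col Cfsg.Agent.H816.BT.Sgn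
  Cfsg.Agent.H816.BT.Abs
open scoped BigOperators

/-! ### The transposition of a signed axis -/

/-- The base transposition. -/
noncomputable def t0 : ↥M.G := ⟨M.t₀, BabyM.Instance.all.C_le_G BabyM.Instance.all.t₀_C⟩

/-- The transposition of a signed axis. -/
noncomputable def tX (x : X0 M) : ↥M.G := (Quotient.out x : ↥M.G) * t0 * (Quotient.out x : ↥M.G)⁻¹

theorem tX_eq {k : ↥M.G} {x : X0 M} (h : pm ((k : Cfsg.Agent.BabyM.Conc.V ≃ₗ[ℚ] Cfsg.Agent.BabyM.Conc.V) M.d₀) (vv M x)) : tX x = k * t0 * k⁻¹ := by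
  apply Subtype.ext
  exact conj_eq (M := M) BabyM.Instance.all (Quotient.out x : ↥M.G).2 k.2 h.symm

theorem tX_mk (k : ↥M.G) : tX (QuotientGroup.mk k) = k * t0 * k⁻¹ := tX_eq (by rw [vv_mk]; exact pm.refl _)

theorem tX_smul (g : ↥M.G) (x : X0 M) : tX (g • x) = g * tX x * g⁻¹ := by
  obtain ⟨k, rfl⟩ := exists_mk0 x
  have h1 : g • (QuotientGroup.mk k : X0 M) = QuotientGroup.mk (g * k) := rfl
  rw [h1, tX_mk, tX_mk]
  group

theorem t0_sq : t0 * t0 = 1 := Subtype.ext BabyM.Instance.all.rep.t₀_sq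

theorem tX_sq (x : X0 M) : tX x * tX x = 1 := by
  have : tX x * tX x = (Quotient.out x : ↥M.G) * (t0 * t0) * (Quotient.out x : ↥M.G)⁻¹ := by
    unfold tX; group
  rw [this, t0_sq, mul_one, mul_inv_cancel]

theorem tX_inv (x : X0 M) : (tX x)⁻¹ = tX x := inv_eq_of_mul_eq_one_left (tX_sq x)

/-- **The action of the transposition of `x` on the axes.** -/
theorem cc_t (x y : X0 M) : cc M y (tX x • y) = ff (par (cc M x y)) := by
  have h := sc_t (vv_mem BabyM.Instance.all x) (vv_mem BabyM.Instance.all y) (Quotient.out x : ↥M.G).2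
    (pm.refl _ : pm _ (vv M x))
  unfold cc
  rw [par_sc, vv_smul]
  exact h

/-! ### The scheme -/

/-- The signed scheme. -/
theorem isCol : Col ↥M.G (X0 M) (Fin 8) (cc M) 0 := isCol8 sch sgn BabyM.Instance.all BabyM.Instance.tr

instance finX : Finite (X0 M) := inferInstanceAs (Finite (↥M.G ⧸ H0 M))

theorem exists_z0 : ∃ z₀ : X0 M, cc M (QuotientGroup.mk 1) z₀ = 3 ∧ ∀ u w : Fin 8,
    tt (cc M) (QuotientGroup.mk 1) z₀ u w = t8 u w := exists_z8'

/-- The number of axes of a colour. -/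
theorem kk_eq8 (x : X0 M) (u : Fin 8) : kk (cc M) x u = ∑ w, t8 u w := by
  obtain ⟨z₀, -, h⟩ := exists_z0
  rw [isCol.kk_eq x (QuotientGroup.mk 1), kk_eq_sum (QuotientGroup.mk 1) z₀ u]
  exact Finset.sum_congr rfl fun w _ => h u w

theorem tt_eq8 {x z : X0 M} (hxz : cc M x z = 3) (u w : Fin 8) : tt (cc M) x z u w = t8 u w := by
  obtain ⟨z₀, h3, h⟩ := exists_z0
  rw [← h u w]
  exact isCol.tt_eq (hxz.trans h3.symm) u w

theorem nn_mul8 (x y : X0 M) (w : Fin 8) :
    Col.nn (cc M) 3 x y w * ∑ w', t8 (cc M x y) w' = (∑ w', t8 3 w') * t8 (cc M x y) w := by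
  obtain ⟨z₀, h3, h⟩ := exists_z0
  have h1 := isCol.nn_mul (x₀ := QuotientGroup.mk 1) (z₀ := z₀) x y w
  rw [h3, h, kk_eq8, kk_eq8] at h1
  exact h1

section sums

variable [Fintype (X0 M)]

open Classical in
theorem sum_col (φ : Fin 8 → ℚ) (x : X0 M) : ∑ y, φ (cc M x y) = ∑ u, ((∑ w, t8 u w : ℕ) : ℚ) * φ u := by
  have h5 : ∀ u, ((∑ w, t8 u w : ℕ) : ℚ) * φ u = ∑ z, if cc M x z = u then φ u else 0 := by
    intro u
    rw [← Finset.sum_filter, Finset.sum_const, nsmul_eq_mul, ← kk_eq8 x u]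
    congr 1
    unfold kk
    rw [Nat.card_eq_fintype_card, Fintype.card_subtype]
  simp only [h5]
  rw [Finset.sum_comm]
  refine Finset.sum_congr rfl fun z _ => ?_
  rw [Finset.sum_ite_eq]
  simp

open Classical in
/-- The neighbours. -/
noncomputable def Zs (x : X0 M) : Finset (X0 M) := Finset.univ.filter fun z => cc M x z = 3

theorem mem_Zs {x z : X0 M} : z ∈ Zs x ↔ cc M x z = 3 := by
  classical
  unfold Zs
  rw [Finset.mem_filter]
  exact ⟨fun h => h.2, fun h => ⟨Finset.mem_univ _, h⟩⟩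

theorem card_Zs (x : X0 M) : (Zs x).card = ∑ w, t8 3 w := by
  classical
  rw [← kk_eq8 x 3]
  unfold kk Zs
  rw [Nat.card_eq_fintype_card, Fintype.card_subtype]

theorem sum_Zs (φ : Fin 8 → ℚ) (x y : X0 M) :
    (∑ z ∈ Zs x, φ (cc M z y)) * ((∑ w, t8 (cc M x y) w : ℕ) : ℚ) =
      ((∑ w, t8 3 w : ℕ) : ℚ) * ∑ w, (t8 (cc M x y) w : ℚ) * φ w := by
  classical
  have h1 : ∑ z ∈ Zs x, φ (cc M z y) = ∑ w, (Col.nn (cc M) 3 x y w : ℚ) * φ w := by
    have h5 : ∀ w, (Col.nn (cc M) 3 x y w : ℚ) * φ w = ∑ z ∈ Zs x, if cc M z y = w then φ w else 0 := by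
      intro w
      rw [← Finset.sum_filter, Finset.sum_const, nsmul_eq_mul]
      congr 1
      unfold Col.nn Zs
      rw [Finset.filter_filter, Nat.card_eq_fintype_card, Fintype.card_subtype]
    simp only [h5]
    rw [Finset.sum_comm]
    refine Finset.sum_congr rfl fun z _ => ?_
    rw [Finset.sum_ite_eq]
    simp
  rw [h1, Finset.sum_mul, Finset.mul_sum]
  refine Finset.sum_congr rfl fun w _ => ?_
  have h2 := nn_mul8 x y w
  have h3 : (Col.nn (cc M) 3 x y w : ℚ) * ((∑ w', t8 (cc M x y) w' : ℕ) : ℚ) =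
      ((∑ w', t8 3 w' : ℕ) : ℚ) * (t8 (cc M x y) w : ℚ) := by exact_mod_cast h2
  calc (Col.nn (cc M) 3 x y w : ℚ) * φ w * ((∑ w', t8 (cc M x y) w' : ℕ) : ℚ) =
      ((Col.nn (cc M) 3 x y w : ℚ) * ((∑ w', t8 (cc M x y) w' : ℕ) : ℚ)) * φ w := by ring
    _ = _ := by rw [h3]; ring

theorem sum_Zs' (φ : Fin 8 → ℚ) {x z : X0 M} (h : cc M x z = 3) :
    ∑ w ∈ Zs x, φ (cc M z w) = ∑ u, (t8 3 u : ℚ) * φ u := by
  classical
  have h5 : ∀ w, (t8 3 w : ℚ) * φ w = ∑ y ∈ Zs x, if cc M z y = w then φ w else 0 := by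
    intro w
    rw [← Finset.sum_filter, Finset.sum_const, nsmul_eq_mul, ← tt_eq8 h 3 w]
    congr 1
    unfold tt Zs
    rw [Finset.filter_filter, Nat.card_eq_fintype_card, Fintype.card_subtype]
  simp only [h5]
  rw [Finset.sum_comm]
  refine Finset.sum_congr rfl fun z _ => ?_
  rw [Finset.sum_ite_eq]
  simp

end sums

/-! ### The kernel of degree `4371` -/

/-- The spherical function. -/
def q0 : Fin 8 → ℚ := ![1, -1, 1/7, -1/7, 1/28, -1/28, 0, 0]

theorem v0_eq (u : Fin 8) : v0 u = ((q0 u : ℚ) : ℂ) := by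
  fin_cases u <;> simp [v0, q0]

theorem SS0 : SS t8 v0 = 6210000 := by
  unfold SS
  simp only [Fin.sum_univ_eight]
  simp [t8, v0]
  norm_num

/-- The kernel. -/
noncomputable def K0 (x y : X0 M) : ℚ := q0 (cc M x y)

theorem K0_symm (x y : X0 M) : K0 x y = K0 y x := by
  unfold K0; rw [isCol.symm]

theorem K0_smul (g : ↥M.G) (x y : X0 M) : K0 (g • x) (g • y) = K0 x y := by
  unfold K0; rw [isCol.inv]

section

variable [Fintype (X0 M)]

theorem K0_rep (x y : X0 M) : ∑ a, K0 a x * K0 a y = 6210000 * K0 x y := by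
  classical
  obtain ⟨z₀, h3, h⟩ := exists_z0
  have hE := eigv0
  rw [← h3] at hE
  have h1 := congrFun (isCol.EE_ee h hE y) x
  rw [EE_apply, Finset.sum_apply, SS0] at h1
  have h2 : ((∑ a, K0 a x * K0 a y : ℚ) : ℂ) = ((6210000 * K0 x y : ℚ) : ℂ) := by
    push_cast
    refine Eq.trans ?_ (h1.trans ?_)
    · refine Finset.sum_congr rfl fun a _ => ?_
      show ((q0 (cc M a x) : ℚ) : ℂ) * ((q0 (cc M a y) : ℚ) : ℂ) = v0 (cc M a y) * v0 (cc M x a)
      rw [v0_eq, v0_eq, isCol.symm x a]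
      ring
    · show (6210000 : ℂ) * v0 (cc M x y) = _
      rw [v0_eq]
      rfl
  exact_mod_cast h2

theorem K0_self (x : X0 M) : K0 x x = 1 := by
  unfold K0; rw [isCol.self]; rfl

theorem V_one : Vv K0 (1 : ↥M.G) = 6210000 * 4371 := by
  unfold Vv
  simp only [one_smul, K0_self, Finset.sum_const, Finset.card_univ, nsmul_eq_mul, mul_one]
  rw [← Nat.card_eq_fintype_card, card_X0 BabyM.Instance.all]
  norm_num

theorem n1 : (∑ u : Fin 8, ((∑ w, t8 u w : ℕ) : ℚ) * q0 (ff (par u))) = 6210000 * (-493) := by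
  decide +kernel

theorem V_t (x : X0 M) : Vv K0 (tX x) = 6210000 * (-493) := by
  unfold Vv K0
  simp only [cc_t]
  rw [sum_col (fun u => q0 (ff (par u))) x]
  exact n1

/-- The values on the products of two transpositions. -/
def val : Fin 5 → ℚ := ![4371, 275, -53, 78, 51]

theorem n2 : ((∑ w, t8 3 w : ℕ) : ℚ) = 3968055 := by decide +kernel

theorem n3 : (∑ u, (t8 3 u : ℚ) * (q0 u) ^ 2) = 177255 / 49 := by decide +kernel

theorem n4 : ∀ u : Fin 8, ((∑ w, t8 u w : ℕ) : ℚ) ≠ 0 := by decide +kernel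

theorem n5 : ∀ u : Fin 8, 3968055 * (∑ w, (t8 u w : ℚ) * q0 (ff (par w))) =
    (((∑ w, t8 u w : ℕ) : ℚ)) * ((7020 / 7) * (val (par u) - 493 + (315 / 4) * q0 (ff (par u)))) := by
  decide +kernel

theorem V_tt (x y : X0 M) : Vv K0 (tX x * tX y) = 6210000 * val (par (cc M x y)) := by
  have hmain := main K0_symm K0_smul K0_rep (tX x) x (Zs x) (α := -1) (β := -315 / 4) (γ := 7 / 7020) (d := 4371)
    (τ := -493) (n := 3968055) (ε := 1 / 49) (m := 177255 / 49) V_one (by rw [tX_inv]; exact V_t x)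
    (by
      unfold K0; rw [cc_t, isCol.self]; rfl)
    (K0_self x)
    (by
      have h1 : ∀ z ∈ Zs x, K0 z (tX x • z) = 1 := by
        intro z hz
        unfold K0; rw [cc_t, mem_Zs.1 hz]; rfl
      rw [Finset.sum_congr rfl h1, Finset.sum_const, nsmul_eq_mul, mul_one, card_Zs, n2])
    (by
      simp only [K0_self, Finset.sum_const, nsmul_eq_mul, mul_one]
      rw [card_Zs, n2])
    (by
      have h1 : ∀ z ∈ Zs x, K0 x z ^ 2 = 1 / 49 := by
        intro z hz
        unfold K0; rw [mem_Zs.1 hz]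
        decide +kernel
      rw [Finset.sum_congr rfl h1, Finset.sum_const, nsmul_eq_mul, card_Zs, n2])
    (by
      have h1 : ∀ z ∈ Zs x, ∑ w ∈ Zs x, K0 z w ^ 2 = 177255 / 49 := by
        intro z hz
        exact (sum_Zs' (fun u => q0 u ^ 2) (mem_Zs.1 hz)).trans n3
      rw [Finset.sum_congr rfl h1, Finset.sum_const, nsmul_eq_mul, card_Zs, n2])
    (by norm_num) (tX y)
  rw [tX_inv, V_t] at hmain
  have h1 : K0 x (tX y • x) = q0 (ff (par (cc M x y))) := by
    unfold K0; rw [cc_t, isCol.symm]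
  have h2 : ∑ z ∈ Zs x, K0 z (tX y • z) = (7020 / 7) * (val (par (cc M x y)) - 493 +
      (315 / 4) * q0 (ff (par (cc M x y)))) := by
    have h3 : ∀ z ∈ Zs x, K0 z (tX y • z) = q0 (ff (par (cc M z y))) := by
      intro z _
      unfold K0; rw [cc_t, isCol.symm]
    have h4 := sum_Zs (fun u => q0 (ff (par u))) x y
    rw [n2, n5] at h4
    rw [Finset.sum_congr rfl h3]
    apply mul_right_cancel₀ (n4 (cc M x y))
    rw [h4]
    ring
  rw [h1, h2] at hmain
  have h5 : (6210000 : ℚ) * Vv K0 (tX x * tX y) = 6210000 * (6210000 * val (par (cc M x y))) := by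
    rw [hmain]
    ring
  exact mul_left_cancel₀ (by norm_num) h5

end

end Cfsg.Agent.H816.BT.Ops
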