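import Cfsg.Agent.H816.BT.Ops

/-!
# Powers of the products of two transpositions of the Baby Monster (helper816)
-/

set_option autoImplicit false
set_option linter.constructorNameAsVariable false
set_option linter.unusedSectionVars false

namespace Cfsg.Agent.H816.BT.Pw

open Cfsg.Agent.BabyM.Model Cfsg.Agent.BabyM.Inst Cfsg.Agent.H995.BSch Cfsg.Agent.H995.BSchVal
  Cfsg.Agent.H877.BSgn Cfsg.Agent.H816.IMEig Cfsg.Agent.H816.IMEig.Col Cfsg.Agent.H816.BT.Sgn
  Cfsg.Agent.H816.BT.Abs Cfsg.Agent.H816.BT.Ops Cfsg.Agent.H816.BT.Chk Cfsg.Agent.BabyM.Conc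
  Cfsg.Agent.BabyM.TransFields
open scoped BigOperators

/-- Two signed axes of the same line. -/
theorem pm_of_par {x y : X0 M} (h : par (cc M x y) = 0) : pm (vv M x) (vv M y) := by
  have h1 : col M (vv M x) (vv M y) = 0 := by rw [← par_sc]; exact h
  exact sch.pm_of_zero (M := M) BabyM.Instance.all (vv_mem BabyM.Instance.all x) (vv_mem BabyM.Instance.all y) h1

theorem tX_congr {x y : X0 M} (h : pm (vv M x) (vv M y)) : tX x = tX y := tX_eq (x := x) (k := Quotient.out y) h.symm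

theorem par_ff : ∀ c : Fin 5, par (ff c) = (![0, 0, 0, 3, 1] : Fin 5 → Fin 5) c := by decide

/-- The conjugate of a transposition. -/
theorem conj_t (x y : X0 M) : tX x * tX y * tX x = tX (tX x • y) := by
  rw [tX_smul, tX_inv]

theorem comm_of {x y : X0 M} (h : par (ff (par (cc M x y))) = 0) : tX x * tX y * tX x = tX y := by
  rw [conj_t]
  refine (tX_congr (pm_of_par ?_)).symm
  rw [cc_t, h]

theorem comm_of' {x y : X0 M} (h : par (cc M x y) = 0 ∨ par (cc M x y) = 1 ∨ par (cc M x y) = 2) :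
    tX x * tX y = tX y * tX x := by
  have h1 : tX x * tX y * tX x = tX y := by
    apply comm_of
    rcases h with h | h | h <;> rw [h] <;> rfl
  calc tX x * tX y = tX x * tX y * (tX x * tX x) := by rw [tX_sq, mul_one]
    _ = (tX x * tX y * tX x) * tX x := by group
    _ = tX y * tX x := by rw [h1]

theorem sq_of {x y : X0 M} (h : par (cc M x y) = 0 ∨ par (cc M x y) = 1 ∨ par (cc M x y) = 2) :
    tX x * tX y * (tX x * tX y) = 1 := by
  calc tX x * tX y * (tX x * tX y) = tX x * tX y * (tX y * tX x) := by rw [comm_of' h]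
    _ = tX x * (tX y * tX y) * tX x := by group
    _ = 1 := by rw [tX_sq, mul_one, tX_sq]

/-- The square, in general. -/
theorem sq_eq (x y : X0 M) : tX x * tX y * (tX x * tX y) = tX x * tX (tX y • x) := by
  rw [← conj_t]; group

theorem cc_sq (x y : X0 M) : par (cc M x (tX y • x)) = (![0, 0, 0, 3, 1] : Fin 5 → Fin 5) (par (cc M x y)) := by
  rw [cc_t, par_ff, isCol.symm]

/-- The base pair of colour `3`. -/
theorem braid_base : tX (QuotientGroup.mk 1 : X0 M) • (QuotientGroup.mk (⟨W v3, W_mem_MG v3⟩ : ↥M.G) : X0 M) =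
    tX (QuotientGroup.mk (⟨W v3, W_mem_MG v3⟩ : ↥M.G) : X0 M) • (QuotientGroup.mk 1 : X0 M) := by
  apply vv_inj
  rw [vv_smul, vv_smul, tX_mk, tX_mk, vv_mk, vv_mk]
  have h := braid0
  have e1 : ((1 * t0 * 1⁻¹ : ↥M.G) : Cfsg.Agent.BabyM.Conc.V ≃ₗ[ℚ] Cfsg.Agent.BabyM.Conc.V) = M.t₀ := by
    rw [one_mul, inv_one, mul_one]
    rfl
  rw [e1]
  exact h

/-- **The braid relation.** -/
theorem braid {x y : X0 M} (h : par (cc M x y) = 3) : tX x * tX y * tX x = tX y * tX x * tX y := by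
  set a : X0 M := QuotientGroup.mk (⟨W v3, W_mem_MG v3⟩ : ↥M.G) with ha
  set b : X0 M := QuotientGroup.mk 1 with hb
  have hab : par (cc M a b) = 3 := by
    unfold cc
    rw [par_sc, ha, hb, vv_mk, vv_mk]
    exact col3
  have hcol : col M (vv M a) (vv M b) = col M (vv M x) (vv M y) := by
    rw [← par_sc, ← par_sc]
    exact hab.trans h.symm
  obtain ⟨g, hg, h1, h2⟩ := sch.tr (M := M) BabyM.Instance.all (vv_mem BabyM.Instance.all a)
    (vv_mem BabyM.Instance.all b) (vv_mem BabyM.Instance.all x) (vv_mem BabyM.Instance.all y) hcol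
  have e1 : tX x = (⟨g, hg⟩ : ↥M.G) * tX a * (⟨g, hg⟩ : ↥M.G)⁻¹ := by
    rw [← tX_smul]
    refine (tX_congr ?_).symm
    rw [vv_smul]
    exact h1
  have e2 : tX y = (⟨g, hg⟩ : ↥M.G) * tX b * (⟨g, hg⟩ : ↥M.G)⁻¹ := by
    rw [← tX_smul]
    refine (tX_congr ?_).symm
    rw [vv_smul]
    exact h2
  have e3 : tX a * tX b * tX a = tX b * tX a * tX b := by
    rw [conj_t, conj_t, braid_base]
  rw [e1, e2]
  calc (⟨g, hg⟩ : ↥M.G) * tX a * (⟨g, hg⟩ : ↥M.G)⁻¹ * ((⟨g, hg⟩ : ↥M.G) * tX b * (⟨g, hg⟩ : ↥M.G)⁻¹) *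
        ((⟨g, hg⟩ : ↥M.G) * tX a * (⟨g, hg⟩ : ↥M.G)⁻¹) =
      (⟨g, hg⟩ : ↥M.G) * (tX a * tX b * tX a) * (⟨g, hg⟩ : ↥M.G)⁻¹ := by group
    _ = (⟨g, hg⟩ : ↥M.G) * (tX b * tX a * tX b) * (⟨g, hg⟩ : ↥M.G)⁻¹ := by rw [e3]
    _ = _ := by group

theorem cube_of {x y : X0 M} (h : par (cc M x y) = 3) : tX x * tX y * (tX x * tX y) * (tX x * tX y) = 1 := by
  calc tX x * tX y * (tX x * tX y) * (tX x * tX y) = (tX x * tX y * tX x) * (tX y * tX x * tX y) := by group
    _ = (tX x * tX y * tX x) * (tX x * tX y * tX x) := by rw [braid h]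
    _ = tX x * tX y * (tX x * tX x) * tX y * tX x := by group
    _ = 1 := by rw [tX_sq, mul_one, mul_assoc (tX x), tX_sq, mul_one, tX_sq]

theorem four_of {x y : X0 M} (h : par (cc M x y) = 4) :
    tX x * tX y * (tX x * tX y) * (tX x * tX y) = tX y * tX x := by
  have h1 : tX x * tX y * (tX x * tX y) * (tX x * tX y * (tX x * tX y)) = 1 := by
    rw [sq_eq]
    apply sq_of
    rw [cc_sq, h]
    right; left; rfl
  have h2 : tX x * tX y * (tX x * tX y) * (tX x * tX y) * (tX x * tX y) = 1 := by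
    rw [mul_assoc (tX x * tX y * (tX x * tX y))]; exact h1
  have h3 := eq_inv_of_mul_eq_one_left h2
  rw [h3, mul_inv_rev, tX_inv, tX_inv]

section

variable [Fintype (X0 M)]

def val2 : Fin 5 → ℚ := ![4371, 4371, 4371, 78, 275]

def val3 : Fin 5 → ℚ := ![4371, 275, -53, 4371, 51]

theorem V_sq (x y : X0 M) : Vv K0 (tX x * tX y * (tX x * tX y)) = 6210000 * val2 (par (cc M x y)) := by
  have h := V_tt x (tX y • x)
  rw [← sq_eq, cc_sq] at h
  generalize hc : par (cc M x y) = c at h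
  fin_cases c
  · rw [h]; rfl
  · rw [sq_of (Or.inr (Or.inl hc)), V_one]; rfl
  · rw [sq_of (Or.inr (Or.inr hc)), V_one]; rfl
  · rw [h]; rfl
  · rw [h]; rfl

theorem V_cube (x y : X0 M) :
    Vv K0 (tX x * tX y * (tX x * tX y) * (tX x * tX y)) = 6210000 * val3 (par (cc M x y)) := by
  have h := V_tt x y
  generalize hc : par (cc M x y) = c at h
  fin_cases c
  · rw [sq_of (Or.inl hc), one_mul, h]; rfl
  · rw [sq_of (Or.inr (Or.inl hc)), one_mul, h]; rfl
  · rw [sq_of (Or.inr (Or.inr hc)), one_mul, h]; rfl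
  · rw [cube_of hc, V_one]; rfl
  · rw [four_of hc, V_tt, isCol.symm, hc]; rfl

/-- The value of the symmetric cube of `f`. -/
noncomputable def sym3 {G : Type*} [Group G] (f : G → ℂ) (g : G) : ℂ := (f g ^ 3 + 3 * f g * f (g * g) + 2 * f (g * g * g)) / 6

/-- The values of the symmetric cube. -/
def val6 : Fin 5 → ℚ := ![13928013746, 4067250, -140662, 83591, 29138]

theorem val6_eq : ∀ c : Fin 5, (val c ^ 3 + 3 * val c * val2 c + 2 * val3 c) / 6 = val6 c := by decide +kernel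

theorem sym3_tt {f : ↥M.G → ℂ} (hf : ∀ g, f g = (6210000 : ℂ)⁻¹ * (Vv K0 g : ℚ)) (x y : X0 M) :
    sym3 f (tX x * tX y) = (val6 (par (cc M x y)) : ℚ) := by
  unfold sym3
  rw [hf, hf, hf, V_tt, V_sq, V_cube, ← val6_eq]
  push_cast
  ring

theorem sym3_t {f : ↥M.G → ℂ} (hf : ∀ g, f g = (6210000 : ℂ)⁻¹ * (Vv K0 g : ℚ)) (x : X0 M) :
    sym3 f (tX x) = -21048142 := by
  unfold sym3
  rw [hf, hf, hf, tX_sq, one_mul, V_t, V_one]
  push_cast
  norm_num

theorem sym3_one {f : ↥M.G → ℂ} (hf : ∀ g, f g = (6210000 : ℂ)⁻¹ * (Vv K0 g : ℚ)) :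
    sym3 f 1 = 13928013746 := by
  unfold sym3
  rw [hf, hf, hf, one_mul, one_mul, V_one]
  push_cast
  norm_num

theorem n6 : (∑ u : Fin 8, ((∑ w, t8 u w : ℕ) : ℚ) * val6 (par u)) =
    2 * (13928013746 + 3968055 * 4067250 - 23113728 * 140662 + 2370830336 * 83591 + 11174042880 * 29138) := by
  decide +kernel

/-- The second moment of the symmetric cube. -/
theorem sum_sym3 {f : ↥M.G → ℂ} (hf : ∀ g, f g = (6210000 : ℂ)⁻¹ * (Vv K0 g : ℚ)) (x : X0 M) :
    ∑ y, sym3 f (tX y * tX x) = ((∑ u : Fin 8, ((∑ w, t8 u w : ℕ) : ℚ) * val6 (par u) : ℚ) : ℂ) := by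
  have h1 : ∀ y, sym3 f (tX y * tX x) = ((val6 (par (cc M x y)) : ℚ) : ℂ) := by
    intro y
    rw [sym3_tt hf, isCol.symm]
  simp only [h1]
  rw [← Rat.cast_sum, sum_col (fun u => val6 (par u)) x]

end

end Cfsg.Agent.H816.BT.Pw
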