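import Cfsg.Agent.H816.BT.Pw
import Cfsg.Agent.H797.BR.Cube
import Cfsg.Agent.H725.BS.Two

/-!
# The constituents `4371`, `63532485`, `13508418144` of the symmetric cube of `4371` of the Baby Monster (helper816)
-/

set_option autoImplicit false
set_option linter.constructorNameAsVariable false
set_option linter.unusedSectionVars false

namespace Cfsg.Agent.H816.BT.Sch

open Cfsg Cfsg.Agent.Characters.Core
open Cfsg.Agent.BabyM.Model Cfsg.Agent.BabyM.Inst Cfsg.Agent.H995.BSch Cfsg.Agent.H995.BSchVal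
  Cfsg.Agent.H877.BSgn Cfsg.Agent.H816.IMEig Cfsg.Agent.H816.IMEig.Col Cfsg.Agent.H816.BT.Sgn
  Cfsg.Agent.H816.BT.Abs Cfsg.Agent.H816.BT.Ops Cfsg.Agent.H816.BT.Pw
open scoped BigOperators ComplexConjugate

noncomputable local instance instFintypeX : Fintype (X0 M) := Fintype.ofFinite _

noncomputable local instance instDecX : DecidableEq (X0 M) := Classical.decEq _

/-- The character of a spherical function. -/
noncomputable def ch (ω : Fin 8 → ℂ) : ↥M.G → ℂ := (isCol.sub ω).toRepresentation.character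

/-- The data of a rational spherical function. -/
structure Dat (θ : ℂ) (ω : Fin 8 → ℂ) (q : Fin 8 → ℚ) (f : ℕ) (s : ℚ) : Prop where
  eig : Eig (3 : Fin 8) 0 t8 θ ω
  rat : ∀ u, ω u = (q u : ℂ)
  sum : ∑ u, ((∑ w, t8 u w : ℕ) : ℚ) * q u ^ 2 = s
  deg : (f : ℚ) * s = 27143910000

section dat

variable {θ : ℂ} {ω : Fin 8 → ℂ} {q : Fin 8 → ℚ} {f : ℕ} {s : ℚ}

theorem SS_eq (h : Dat θ ω q f s) : SS t8 ω = (s : ℂ) := by
  unfold SS
  rw [← h.sum]
  push_cast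
  refine Finset.sum_congr rfl fun u _ => ?_
  rw [h.rat]

theorem s_ne (h : Dat θ ω q f s) : s ≠ 0 := by
  intro h0
  have := h.deg
  rw [h0, mul_zero] at this
  norm_num at this

theorem SS_ne (h : Dat θ ω q f s) : SS t8 ω ≠ 0 := by
  rw [SS_eq h]
  exact_mod_cast s_ne h

theorem ch_eq (h : Dat θ ω q f s) (g : ↥M.G) : ch ω g = ((s⁻¹ * ∑ x, q (cc M x (g • x)) : ℚ) : ℂ) := by
  obtain ⟨z₀, h3, ht⟩ := exists_z0
  have hE := h.eig
  rw [← h3] at hE
  have h1 := H740.K4.Scheme.character_eq isCol ht hE (SS_ne h) g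
  unfold ch
  rw [h1, SS_eq h]
  push_cast
  congr 1
  exact Finset.sum_congr rfl fun x _ => h.rat _

theorem ch_irr (h : Dat θ ω q f s) : IsIrrCharacter ↥M.G (ch ω) := by
  obtain ⟨z₀, h3, ht⟩ := exists_z0
  have hE := h.eig
  rw [← h3] at hE
  exact isIrrCharacter_of_rep _ (isCol.irr ht hE)

theorem ch_conj (h : Dat θ ω q f s) (g : ↥M.G) : conj (ch ω g) = ch ω g := by
  rw [ch_eq h, map_ratCast]

theorem q_zero (h : Dat θ ω q f s) : q 0 = 1 := by
  have h1 := h.eig.one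
  rw [h.rat] at h1
  exact_mod_cast h1

theorem ch_one (h : Dat θ ω q f s) : ch ω 1 = f := by
  rw [ch_eq h]
  have h1 : ∀ x : X0 M, q (cc M x ((1 : ↥M.G) • x)) = 1 := by
    intro x
    rw [one_smul, isCol.self, q_zero h]
  simp only [h1, Finset.sum_const, Finset.card_univ, nsmul_eq_mul, mul_one]
  rw [← Nat.card_eq_fintype_card, card_X0 BabyM.Instance.all]
  have h2 : s⁻¹ * ((27143910000 : ℕ) : ℚ) = (f : ℚ) := by
    have := s_ne h
    field_simp
    rw [mul_comm]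
    exact_mod_cast h.deg.symm
  rw [h2]
  norm_cast

theorem ch_t (h : Dat θ ω q f s) (x : X0 M) {v : ℚ}
    (hv : ∑ u, ((∑ w, t8 u w : ℕ) : ℚ) * q (ff (par u)) = s * v) : ch ω (tX x) = (v : ℂ) := by
  rw [ch_eq h]
  simp only [cc_t]
  rw [sum_col (fun u => q (ff (par u))) x, hv]
  have h2 : s⁻¹ * (s * v) = v := by
    have := s_ne h
    field_simp
  rw [h2]

end dat

/-! ### The three constituents -/

def q1 : Fin 8 → ℚ := ![1, -1, 7/969, -7/969, -1/20672, 1/20672, 0, 0]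

def q2 : Fin 8 → ℚ := ![1, -1, -1/29393, 1/29393, 1/4630528, -1/4630528, 0, 0]

theorem dat0 : Dat (-566865) v0 q0 4371 6210000 where
  eig := eigv0
  rat := v0_eq
  sum := by decide +kernel
  deg := by norm_num

theorem dat1 : Dat (-28665) v1 q1 63532485 (27143910000 / 63532485) where
  eig := eigv1
  rat u := by fin_cases u <;> simp [v1, q1]
  sum := by decide +kernel
  deg := by norm_num

theorem dat2 : Dat 135 v2 q2 13508418144 (27143910000 / 13508418144) where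
  eig := eigv2
  rat u := by fin_cases u <;> simp [v2, q2]
  sum := by decide +kernel
  deg := by norm_num

theorem t_0 (x : X0 M) : ch v0 (tX x) = -493 := by
  rw [ch_t dat0 x (v := -493) (by decide +kernel)]; norm_num

theorem t_1 (x : X0 M) : ch v1 (tX x) = -468027 := by
  rw [ch_t dat1 x (v := -468027) (by decide +kernel)]; norm_num

theorem t_2 (x : X0 M) : ch v2 (tX x) = -18677152 := by
  rw [ch_t dat2 x (v := -18677152) (by decide +kernel)]; norm_num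

theorem f_0 (g : ↥M.G) : ch v0 g = (6210000 : ℂ)⁻¹ * (Vv K0 g : ℚ) := by
  rw [ch_eq dat0]
  show ((((6210000 : ℚ)⁻¹ * Vv K0 g : ℚ)) : ℂ) = _
  rw [Rat.cast_mul, Rat.cast_inv]
  norm_num

/-! ### The symmetric cube -/

theorem isChar : IsCharacter ↥M.G (sym3 (ch v0)) :=
  H797.BR.isCharacter_symCube (isIrr_isCharacter (ch_irr dat0))

theorem inner_ne {θ : ℂ} {ω : Fin 8 → ℂ} {q : Fin 8 → ℚ} {f : ℕ} {s : ℚ} (h : Dat θ ω q f s)
    (hK : ∑ u, ((∑ w, t8 u w : ℕ) : ℚ) * (q0 u ^ 3 * q u) ≠ 0) [Fintype ↥M.G] :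
    classInner (sym3 (ch v0)) (ch ω) ≠ 0 := by
  obtain ⟨z₀, h3, ht⟩ := exists_z0
  rw [classInner_def]
  refine mul_ne_zero (inv_ne_zero (by exact_mod_cast (Nat.card_pos (α := ↥M.G)).ne')) ?_
  simp only [ch_conj h]
  refine H797.BR.sum_ne_zero_of_krein_cube isCol ht ?_
  have e : ∑ u, ((∑ w, t8 u w : ℕ) : ℂ) * (v0 u ^ 3 * ω u) =
      ((∑ u, ((∑ w, t8 u w : ℕ) : ℚ) * (q0 u ^ 3 * q u) : ℚ) : ℂ) := by
    push_cast
    refine Finset.sum_congr rfl fun u _ => ?_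
    rw [h.rat, v0_eq]
  rw [e]
  exact_mod_cast hK

theorem inner_1 [Fintype ↥M.G] : classInner (sym3 (ch v0)) (ch v1) ≠ 0 := inner_ne dat1 (by decide +kernel)

theorem inner_2 [Fintype ↥M.G] : classInner (sym3 (ch v0)) (ch v2) ≠ 0 := inner_ne dat2 (by decide +kernel)

theorem det_ne : (∑ u, ∑ w, (t8 u w : ℚ) * q0 u ^ 4) *
        (((∑ u, ∑ w, (t8 u w : ℚ) * q0 u ^ 2) * (∑ u, ∑ w, (t8 u w : ℚ) * q0 w ^ 2) +
          2 * (∑ u, ∑ w, (t8 u w : ℚ) * (q0 u * q0 w)) ^ 2) / 3) -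
      (∑ u, ∑ w, (t8 u w : ℚ) * q0 u ^ 2) ^ 2 * (∑ u, ∑ w, (t8 u w : ℚ) * (q0 u ^ 2 * q0 w ^ 2)) ≠ 0 := by
  decide +kernel

/-- **`V` occurs twice.** -/
theorem inner_0 [Fintype ↥M.G] : ∃ n : ℕ, 2 ≤ n ∧ classInner (sym3 (ch v0)) (ch v0) = n := by
  obtain ⟨z₀, h3, ht⟩ := exists_z0
  obtain ⟨n, hn, h1⟩ := H725.BS.two_le_symCube isCol ht (ω := v0) (by
    simp only [v0_eq]
    exact_mod_cast det_ne)
  refine ⟨n, hn, ?_⟩
  rw [classInner_def]
  simp only [ch_conj dat0]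
  have h2 : ∑ g : ↥M.G, sym3 (ch v0) g * ch v0 g = n * (Nat.card ↥M.G : ℂ) := by
    rw [← h1]
    refine Finset.sum_congr rfl fun g _ => ?_
    unfold sym3 ch
    rw [mul_assoc g g g]
  have hG : (Nat.card ↥M.G : ℂ) ≠ 0 := by exact_mod_cast (Nat.card_pos (α := ↥M.G)).ne'
  rw [h2]
  field_simp

end Cfsg.Agent.H816.BT.Sch
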