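import Cfsg.Agent.H816.BT.Chk

/-!
# The action of a transposition of the Baby Monster on the signed axes (helper816)

`sc_t` : the signed colour of `(y, t_x y)` is `0, 0, 1, 4, 3` for the colour `0, …, 4` of `(x, y)`.
`braid` : `t_x t_y t_x = t_y t_x t_y` for the colour `3`.
-/

set_option autoImplicit false
set_option linter.constructorNameAsVariable false

namespace Cfsg.Agent.H816.BT.Sgn

open Cfsg.Agent.Monster.VecEngine Cfsg.Agent.Monster.VecSpace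
open Cfsg.Agent.BabyM.Conc Cfsg.Agent.BabyM.TransInv Cfsg.Agent.BabyM.InstVec Cfsg.Agent.BabyM.InstZ
  Cfsg.Agent.BabyM.Inst Cfsg.Agent.BabyM.TransCover Cfsg.Agent.BabyM.TransData
  Cfsg.Agent.BabyM.TransOrd
  Cfsg.Agent.BabyM.TransFields Cfsg.Agent.H995.BSch Cfsg.Agent.H995.BSchVal Cfsg.Agent.H877.BSgn
  Cfsg.Agent.H816.BT.Chk
open Cfsg.Agent.BabyM.Model

/-- The signed colour of `(y, t_x y)`. -/
def ff : Fin 5 → Fin 8 := ![0, 0, 1, 4, 3]

theorem transfer {x y x' y' : V} (hx : x ∈ M.D) (hy : y ∈ M.D) (hx' : x' ∈ M.D) (hy' : y' ∈ M.D)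
    (h : col M x y = col M x' y') {k k' : V ≃ₗ[ℚ] V} (hk : k ∈ M.G) (hk' : k' ∈ M.G) (e : pm (k M.d₀) x)
    (e' : pm (k' M.d₀) x') : ∃ g ∈ M.G, pm (g y) y' ∧ g * (k * M.t₀ * k⁻¹) * g⁻¹ = k' * M.t₀ * k'⁻¹ := by
  obtain ⟨g, hg, h1, h2⟩ := sch.tr BabyM.Instance.all hx hy hx' hy' h
  refine ⟨g, hg, h2, ?_⟩
  have h3 := conj_eq (M := M) BabyM.Instance.all (M.G.mul_mem hg hk) hk'
    (((pm.map e g).trans h1).trans e'.symm : pm ((g * k) M.d₀) (k' M.d₀))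
  rw [← h3]
  group

theorem sc_transfer {x y x' y' : V} (hx : x ∈ M.D) (hy : y ∈ M.D) (hx' : x' ∈ M.D) (hy' : y' ∈ M.D)
    (h : col M x y = col M x' y') {k k' : V ≃ₗ[ℚ] V} (hk : k ∈ M.G) (hk' : k' ∈ M.G) (e : pm (k M.d₀) x)
    (e' : pm (k' M.d₀) x') : sc M y ((k * M.t₀ * k⁻¹) y) = sc M y' ((k' * M.t₀ * k'⁻¹) y') := by
  obtain ⟨g, hg, h1, h2⟩ := transfer hx hy hx' hy' h hk hk' e e'
  have h3 : (k' * M.t₀ * k'⁻¹) (g y) = g ((k * M.t₀ * k⁻¹) y) := by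
    rw [← h2, LinearEquiv.mul_apply, LinearEquiv.mul_apply, inv_apply_self']
  have h4 : sc M (g y) ((k' * M.t₀ * k'⁻¹) (g y)) = sc M y ((k * M.t₀ * k⁻¹) y) := by
    rw [h3, sc_smul (M := M) BabyM.Instance.all hg]
  rw [← h4]
  rcases h1 with h1 | h1
  · rw [h1]
  · rw [h1, map_neg, sc_neg_right, sc_neg_left (M := M) BabyM.Instance.all hy', Cfsg.Agent.H877.BSgn.flip_flip]

theorem W3 : sc M M.d₀ (W (tw v3) M.d₀) = 4 := by
  have h : sc M (W (tw v3) M.d₀) (M.d (0 : Fin 5)) = 4 := cs8 (c := 3) 0 rfl c3t rfl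
  rw [M_d_zero] at h
  rw [sc_comm (M := M) BabyM.Instance.all BabyM.Instance.tr (BabyM.Instance.all.d₀_mem) (W_mem_D _)]
  exact h

theorem W4 : sc M M.d₀ (W (tw v4) M.d₀) = 3 := by
  have h : sc M (W (tw v4) M.d₀) (M.d (0 : Fin 5)) = 3 := cs8 (c := 1) 0 rfl c4t rfl
  rw [M_d_zero] at h
  rw [sc_comm (M := M) BabyM.Instance.all BabyM.Instance.tr (BabyM.Instance.all.d₀_mem) (W_mem_D _)]
  exact h

theorem col3 : col M (W v3 M.d₀) M.d₀ = 3 := by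
  have h : col M (W v3 M.d₀) (M.d (0 : Fin 5)) = 3 := cs (c := 3) 0 rfl c3
  rwa [M_d_zero] at h

theorem col4 : col M (W v4 M.d₀) M.d₀ = 4 := by
  have h : col M (W v4 M.d₀) (M.d (0 : Fin 5)) = 4 := cs (c := 4) 0 rfl u3
  rwa [M_d_zero] at h

/-- **The signed colours.** -/
theorem sc_t {x y : V} (hx : x ∈ M.D) (hy : y ∈ M.D) {k : V ≃ₗ[ℚ] V} (hk : k ∈ M.G) (e : pm (k M.d₀) x) :
    sc M y ((k * M.t₀ * k⁻¹) y) = ff (col M x y) := by
  have hself : sc M y y = 0 := sc_0 (BabyM.Instance.all.F_D _ hy)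
  have hself' : sc M y (-y) = 1 := by rw [sc_neg_right, hself]; rfl
  generalize hc : col M x y = c
  fin_cases c
  · -- `y = ± x`
    have h1 : pm x y := sch.pm_of_zero (M := M) BabyM.Instance.all hx hy hc
    have h2 : pm (k M.d₀) y := e.trans h1
    have h3 : (k * M.t₀ * k⁻¹) (k M.d₀) = k M.d₀ := by
      rw [LinearEquiv.mul_apply, LinearEquiv.mul_apply, inv_apply_self']
      congr 1
      unfold BData.d₀
      rw [map_add, BabyM.Instance.all.rep.Q_u₀ _ BabyM.Instance.all.rep.t₀_mem,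
        BabyM.Instance.all.rep.Q_e₀_pos _ BabyM.Instance.all.rep.t₀_mem rfl]
    have h4 : (k * M.t₀ * k⁻¹) y = y := by
      rcases h2 with h2 | h2
      · rw [← h2]; exact h3
      · have h5 : y = -(k M.d₀) := by rw [h2, neg_neg]
        rw [h5, map_neg, h3]
    rw [h4, hself]
    rfl
  · have h4 : (k * M.t₀ * k⁻¹) y = y :=
      fix_of_one (M := M) BabyM.Instance.all hk e (pc_one sch BabyM.Instance.all hx hy hc)
    rw [h4, hself]
    rfl
  · have h4 : (k * M.t₀ * k⁻¹) y = -y := neg_two sch BabyM.Instance.all sgn.two hx hy hc hk e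
    rw [h4, hself']
    rfl
  · have h := sc_transfer (W_mem_D v3) BabyM.Instance.all.d₀_mem hx hy (col3.trans hc.symm) (W_mem_MG v3) hk
      (pm.refl _) e
    rw [← h]
    have h5 : W v3 * M.t₀ * (W v3)⁻¹ = W (tw v3) := (W_tw v3).symm
    rw [h5]
    exact W3
  · have h := sc_transfer (W_mem_D v4) BabyM.Instance.all.d₀_mem hx hy (col4.trans hc.symm) (W_mem_MG v4) hk
      (pm.refl _) e
    rw [← h]
    have h5 : W v4 * M.t₀ * (W v4)⁻¹ = W (tw v4) := (W_tw v4).symm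
    rw [h5]
    exact W4

/-- `t₀ (W v3 d₀) = W (tw v3) d₀`. -/
theorem braid0 : M.t₀ (W v3 M.d₀) = (W v3 * M.t₀ * (W v3)⁻¹) M.d₀ := by
  have h5 : W v3 * M.t₀ * (W v3)⁻¹ = W (tw v3) := (W_tw v3).symm
  rw [h5]
  have h1 : M.t₀ * W v3 = W (v3 ++ t0w) := by
    rw [W_append, W_t0w]
    rfl
  have h2 := W_eq_of_check c3b
  have h3 : M.d₀ = (1 / 8 : ℚ) • vecU ℚ U dv0 := by
    rw [← M_d_zero]
    exact M_d_eq 0
  rw [← LinearEquiv.mul_apply, h1, h3, map_smul, map_smul, h2]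

end Cfsg.Agent.H816.BT.Sgn
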