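import Cfsg.Agent.H816.BT.Main
import Cfsg.Agent.H816.BT.Even
import Cfsg.Agent.H630.OreB.Cent

/-!
# The symmetric and the exterior square of the character of degree `4371` of the Baby Monster (helper816)

`Sym² V = 1 + 96255 + 9458750`, `Λ² V = 9550635` is irreducible (variance zero of the class sum of the transpositions,
degrees modulo `17` and `19`).
-/

set_option autoImplicit false
set_option linter.constructorNameAsVariable false
set_option linter.unusedSectionVars false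

namespace Cfsg.Agent.H816.BT.Two

open Cfsg Cfsg.Agent.Characters.Core
open Cfsg.Agent.BabyM.Model Cfsg.Agent.BabyM.Inst Cfsg.Agent.H995.BSch Cfsg.Agent.H995.BSchVal
  Cfsg.Agent.H877.BSgn Cfsg.Agent.H816.IMEig Cfsg.Agent.H816.IMEig.Col Cfsg.Agent.H816.BT.Sgn
  Cfsg.Agent.H816.BT.Abs Cfsg.Agent.H816.BT.Ops Cfsg.Agent.H816.BT.Pw Cfsg.Agent.H816.BT.Sch
  Cfsg.Agent.H816.BT.Even Cfsg.Agent.H816.BT.Main
open scoped BigOperators ComplexConjugate

universe u

noncomputable local instance instFintypeX : Fintype (X0 M) := Fintype.ofFinite _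

noncomputable local instance instDecX : DecidableEq (X0 M) := Classical.decEq _

/-! ### The even constituents -/

def qe1 : Fin 8 → ℚ := ![1, 1, 1, 1, 1, 1, 1, 1]

def qe2 : Fin 8 → ℚ := ![1, 1, 23/399, 23/399, 13/2128, 13/2128, -7/228, -1/798]

def qe3 : Fin 8 → ℚ := ![1, 1, 29/2261, 29/2261, 61/1157632, 61/1157632, 7/1216, -1/36176]

theorem datE1 : Dat 3968055 e1 qe1 1 27143910000 where
  eig := eig_e1
  rat u := by fin_cases u <;> simp [e1, qe1]
  sum := by decide +kernel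
  deg := by norm_num

theorem datE2 : Dat 228735 e2 qe2 96255 282000 where
  eig := eig_e2
  rat u := by fin_cases u <;> simp [e2, qe2]
  sum := by decide +kernel
  deg := by norm_num

theorem datE3 : Dat 50895 e3 qe3 9458750 (20088 / 7) where
  eig := eig_e3
  rat u := by fin_cases u <;> simp [e3, qe3]
  sum := by decide +kernel
  deg := by norm_num

theorem t_e2 (x : X0 M) : ch e2 (tX x) = 4863 := by
  rw [ch_t datE2 x (v := 4863) (by decide +kernel)]; norm_num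

theorem t_e3 (x : X0 M) : ch e3 (tX x) = 118846 := by
  rw [ch_t datE3 x (v := 118846) (by decide +kernel)]; norm_num

theorem ch_e1 (g : ↥M.G) : ch e1 g = 1 := by
  rw [ch_eq datE1]
  have h1 : ∀ u : Fin 8, qe1 u = 1 := by decide +kernel
  simp only [h1, Finset.sum_const, Finset.card_univ, nsmul_eq_mul, mul_one]
  rw [← Nat.card_eq_fintype_card, card_X0 BabyM.Instance.all]
  norm_num

/-! ### A character of degree zero -/

theorem eq_zero_of_one {G : Type u} [Group G] {Ψ : G → ℂ} (hΨ : IsCharacter G Ψ) (h : Ψ 1 = 0) : Ψ = 0 := by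
  obtain ⟨n, ρ, rfl⟩ := hΨ
  rw [Representation.char_one] at h
  simp only [Module.finrank_fin_fun, Nat.cast_eq_zero] at h
  subst h
  funext g
  show LinearMap.trace ℂ _ (ρ g) = 0
  have : ρ g = 0 := LinearMap.ext fun x => Subsingleton.elim _ _
  rw [this, map_zero]

/-! ### The symmetric square -/

/-- the symmetric square -/
noncomputable def sq2 (g : ↥M.G) : ℂ := (ch v0 g ^ 2 + ch v0 (g * g)) / 2

theorem inner_sq_ne {θ : ℂ} {ω : Fin 8 → ℂ} {q : Fin 8 → ℚ} {f : ℕ} {s : ℚ} (h : Dat θ ω q f s)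
    (hK : ∑ u, ((∑ w, t8 u w : ℕ) : ℚ) * (q0 u ^ 2 * q u) ≠ 0) [Fintype ↥M.G] :
    classInner sq2 (ch ω) ≠ 0 := by
  obtain ⟨z₀, h3, ht⟩ := exists_z0
  rw [classInner_def]
  refine mul_ne_zero (inv_ne_zero (by exact_mod_cast (Nat.card_pos (α := ↥M.G)).ne')) ?_
  simp only [ch_conj h]
  refine H436.Krein.sum_ne_zero_of_krein isCol ht ?_
  have e : ∑ u, ((∑ w, t8 u w : ℕ) : ℂ) * (v0 u ^ 2 * ω u) =
      ((∑ u, ((∑ w, t8 u w : ℕ) : ℚ) * (q0 u ^ 2 * q u) : ℚ) : ℂ) := by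
    push_cast
    refine Finset.sum_congr rfl fun u _ => ?_
    rw [h.rat, v0_eq]
  rw [e]
  exact_mod_cast hK

theorem isCharSq : IsCharacter ↥M.G sq2 := PermChar.SymAlt.isCharacter_symSq (isIrr_isCharacter (ch_irr dat0))

/-- **`Sym² V = 1 + 96255 + 9458750`.** -/
theorem sym2 (g : ↥M.G) : (ch v0 g ^ 2 + ch v0 (g * g)) / 2 = 1 + ch e2 g + ch e3 g := by
  have := Fintype.ofFinite ↥M.G
  have i1 := ch_irr datE1
  have i2 := ch_irr datE2
  have i3 := ch_irr datE3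
  have n12 : ch e1 ≠ ch e2 := ne_of_one (ch_one datE1) (ch_one datE2) (by norm_num)
  have n13 : ch e1 ≠ ch e3 := ne_of_one (ch_one datE1) (ch_one datE3) (by norm_num)
  have n23 : ch e2 ≠ ch e3 := ne_of_one (ch_one datE2) (ch_one datE3) (by norm_num)
  have c1 : IsCharacter ↥M.G (sq2 - ch e1) := isCharacter_sub isCharSq i1 (inner_sq_ne datE1 (by decide +kernel))
  have c2 : IsCharacter ↥M.G (sq2 - ch e1 - ch e2) := isCharacter_sub c1 i2 (by
    rw [classInner_sub_left, classInner_irr_ne i1 i2 n12, sub_zero]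
    exact inner_sq_ne datE2 (by decide +kernel))
  have c3 : IsCharacter ↥M.G (sq2 - ch e1 - ch e2 - ch e3) := isCharacter_sub c2 i3 (by
    rw [classInner_sub_left, classInner_sub_left, classInner_irr_ne i1 i3 n13, classInner_irr_ne i2 i3 n23, sub_zero,
      sub_zero]
    exact inner_sq_ne datE3 (by decide +kernel))
  have h0 : (sq2 - ch e1 - ch e2 - ch e3) 1 = 0 := by
    show (ch v0 1 ^ 2 + ch v0 (1 * 1)) / 2 - ch e1 1 - ch e2 1 - ch e3 1 = 0
    rw [mul_one, ch_one dat0, ch_one datE1, ch_one datE2, ch_one datE3]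
    norm_num
  have h1 := congrFun (eq_zero_of_one c3 h0) g
  have h2 : (ch v0 g ^ 2 + ch v0 (g * g)) / 2 - ch e1 g - ch e2 g - ch e3 g = 0 := h1
  rw [ch_e1] at h2
  linear_combination h2

/-! ### The exterior square -/

/-- the exterior square -/
noncomputable def al2 (g : ↥M.G) : ℂ := (ch v0 g ^ 2 - ch v0 (g * g)) / 2

theorem isCharAl : IsCharacter ↥M.G al2 := PermChar.SymAlt.isCharacter_altSq (isIrr_isCharacter (ch_irr dat0))

/-- The values of the exterior square. -/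
def vala : Fin 5 → ℚ := ![9550635, 35627, -781, 3003, 1163]

theorem vala_eq : ∀ c : Fin 5, (val c ^ 2 - val2 c) / 2 = vala c := by decide +kernel

theorem al2_tt (x y : X0 M) : al2 (tX x * tX y) = (vala (par (cc M x y)) : ℚ) := by
  unfold al2
  rw [f_0, f_0, V_tt, V_sq, ← vala_eq]
  push_cast
  ring

theorem al2_t (x : X0 M) : al2 (tX x) = 119339 := by
  unfold al2
  rw [f_0, f_0, tX_sq, V_t, V_one]
  push_cast
  norm_num

theorem al2_one : al2 1 = 9550635 := by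
  unfold al2
  rw [mul_one, ch_one dat0]
  norm_num

theorem n7 : (∑ u : Fin 8, ((∑ w, t8 u w : ℕ) : ℚ) * vala (par u)) =
    2 * (9550635 + 3968055 * 35627 - 23113728 * 781 + 2370830336 * 3003 + 11174042880 * 1163) := by
  decide +kernel

theorem var_al (x : X0 M) : al2 1 * ∑ y, al2 (tX y * tX x) = (Fintype.card (X0 M) : ℂ) * al2 (tX x) ^ 2 := by
  have h1 : ∀ y, al2 (tX y * tX x) = ((vala (par (cc M x y)) : ℚ) : ℂ) := by
    intro y
    rw [al2_tt, isCol.symm]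
  simp only [h1]
  rw [← Rat.cast_sum, sum_col (fun u => vala (par u)) x, n7, al2_one, al2_t, cardX]
  push_cast
  norm_num

/-- **The degrees of the Baby Monster modulo `17`.** -/
theorem mod17 {S : Type u} [Group S] (h : Spor.IsoB S) (χ : IrrCharacter S) :
    charDegree (χ : S → ℂ) % 17 ∈ [0, 1, 16, 2, 15] := by
  obtain ⟨hfin, hs, hna⟩ := H578.BM.facts h
  have hcard := Cfsg.Agent.H995.IMB.card_of h
  have h17 : Fact (Nat.Prime 17) := ⟨by norm_num⟩
  obtain ⟨x, hx⟩ := exists_prime_orderOf_dvd_card' (G := S) 17 (by rw [hcard]; norm_num)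
  have hc := Cfsg.Agent.H630.OreB.Cent.c17 (fun _ _ _ X hX hC => S3331.result X hX hC) h hx
  have h1 := Cfsg.Agent.H531.MB.residue hna (by norm_num) hcard hx (k := 4) hc 16 1
    [(0, 0), (1, 1), (16, -1), (2, 2), (15, -2)] (by decide +kernel) χ
  simpa using h1

theorem arith (k : ℕ) (h9 : k ≤ 19)
    (h : 502665 * k % 19 = 0 ∨ 502665 * k % 19 = 1 ∨ 502665 * k % 19 = 18)
    (h' : 502665 * k % 17 ∈ [0, 1, 16, 2, 15]) : k = 0 ∨ k = 19 := by
  revert k
  decide +kernel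

/-- **`Λ² V` is irreducible.** -/
theorem irrAl : IsIrrCharacter ↥M.G al2 := by
  classical
  have := Fintype.ofFinite ↥M.G
  have := finite_irr (G := ↥M.G)
  have := Fintype.ofFinite (IrrCharacter ↥M.G)
  have hB : Spor.IsoB ↥M.G := ⟨BM.KHAll.iso.symm⟩
  let x : X0 M := QuotientGroup.mk 1
  obtain ⟨m, hm⟩ := exists_nat_comb isCharAl
  have hin : ∀ ψ : IrrCharacter ↥M.G, classInner al2 (ψ : ↥M.G → ℂ) = m ψ := by
    intro ψ
    rw [hm]
    exact classInner_sum_nsmul_irr _ _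
  have hsum : ∑ ψ : IrrCharacter ↥M.G, m ψ * charDegree (ψ : ↥M.G → ℂ) = 9550635 := by
    have h2 : al2 1 = ((∑ ψ : IrrCharacter ↥M.G, m ψ * charDegree (ψ : ↥M.G → ℂ) : ℕ) : ℂ) := by
      rw [hm]
      push_cast
      rw [Finset.sum_apply]
      refine Finset.sum_congr rfl fun ψ _ => ?_
      rw [Pi.smul_apply, nsmul_eq_mul, Blocks.Basic.irr_one_eq_charDegree ψ.2]
    rw [al2_one] at h2
    exact_mod_cast h2.symm
  obtain ⟨ψ, hψ⟩ : ∃ ψ : IrrCharacter ↥M.G, m ψ ≠ 0 := by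
    by_contra hno
    push Not at hno
    simp only [hno, zero_mul, Finset.sum_const_zero] at hsum
    norm_num at hsum
  have hc : classInner al2 (ψ : ↥M.G → ℂ) ≠ 0 := by
    rw [hin]; exact_mod_cast hψ
  have hr := H165.Vr.ratio_of_var_act htr tX_smul isCharAl (by rw [tX_inv]) (var_al x) ψ.2 hc
  rw [al2_one, al2_t] at hr
  obtain ⟨j, hj, -⟩ := H165.Vr.exists_multiple (isIrr_isCharacter ψ.2) (tX_sq x) (D := 9550635) (T := 119339)
    (A := 6281) (B := 502665) (k := 19) (by push_cast; exact hr) (by norm_num) (by norm_num) (by norm_num)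
    (by rw [Int.isCoprime_iff_gcd_eq_one]; norm_num) (by norm_num)
  have hd : (charDegree (ψ : ↥M.G → ℂ) : ℤ) = j * 502665 := by
    rw [Blocks.Basic.irr_one_eq_charDegree ψ.2] at hj
    exact_mod_cast hj
  have hpos := Blocks.Basic.charDegree_pos ψ.2
  have hle : charDegree (ψ : ↥M.G → ℂ) ≤ 9550635 := by
    rw [← hsum]
    refine le_trans (Nat.le_mul_of_pos_left _ (Nat.pos_of_ne_zero hψ)) ?_
    exact Finset.single_le_sum (f := fun ψ : IrrCharacter ↥M.G => m ψ * charDegree (ψ : ↥M.G → ℂ))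
      (fun _ _ => Nat.zero_le _) (Finset.mem_univ ψ)
  obtain ⟨k, rfl⟩ : ∃ k : ℕ, j = k := ⟨j.toNat, by omega⟩
  have hd' : charDegree (ψ : ↥M.G → ℂ) = 502665 * k := by
    have : (charDegree (ψ : ↥M.G → ℂ) : ℤ) = ((502665 * k : ℕ) : ℤ) := by rw [hd]; push_cast; ring
    exact_mod_cast this
  have h19 := H578.BM.mod19 hB ψ
  have h17 := mod17 hB ψ
  rw [hd'] at h19 h17 hle hpos
  have hk : k = 19 := by
    rcases arith k (by omega) h19 h17 with h | h
    · subst h; omega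
    · exact h
  have c1 : IsCharacter ↥M.G (al2 - (ψ : ↥M.G → ℂ)) := isCharacter_sub isCharAl ψ.2 hc
  have h0 : (al2 - (ψ : ↥M.G → ℂ)) 1 = 0 := by
    show al2 1 - (ψ : ↥M.G → ℂ) 1 = 0
    rw [al2_one, Blocks.Basic.irr_one_eq_charDegree ψ.2, hd', hk]
    norm_num
  have h1 := eq_zero_of_one c1 h0
  rw [sub_eq_zero] at h1
  rw [h1]
  exact ψ.2

/-- **The squares of the character of degree `4371`.** -/
theorem squares {S : Type u} [Group S] (h : Spor.IsoB S) : ∃ ψ χ₂ χ₃ α : IrrCharacter S,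
    (ψ : S → ℂ) 1 = 4371 ∧ (χ₂ : S → ℂ) 1 = 96255 ∧ (χ₃ : S → ℂ) 1 = 9458750 ∧ (α : S → ℂ) 1 = 9550635 ∧
    (∀ g, ∃ q : ℚ, (ψ : S → ℂ) g = q) ∧ (∀ g, ∃ q : ℚ, (χ₂ : S → ℂ) g = q) ∧ (∀ g, ∃ q : ℚ, (χ₃ : S → ℂ) g = q) ∧
    (∀ g, ((ψ : S → ℂ) g ^ 2 + (ψ : S → ℂ) (g * g)) / 2 = 1 + (χ₂ : S → ℂ) g + (χ₃ : S → ℂ) g) ∧
    ∀ g, ((ψ : S → ℂ) g ^ 2 - (ψ : S → ℂ) (g * g)) / 2 = (α : S → ℂ) g := by
  obtain ⟨e⟩ := h
  let f : S ≃* ↥M.G := e.trans Cfsg.Agent.BM.KHAll.iso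
  have hi : ∀ {χ : ↥M.G → ℂ}, IsIrrCharacter ↥M.G χ → IsIrrCharacter S (χ ∘ f.toMonoidHom) := fun hχ =>
    isIrr_comp f.toMonoidHom f.surjective hχ
  refine ⟨⟨_, hi (ch_irr dat0)⟩, ⟨_, hi (ch_irr datE2)⟩, ⟨_, hi (ch_irr datE3)⟩, ⟨_, hi irrAl⟩, ?_, ?_, ?_, ?_, ?_, ?_,
    ?_, ?_, ?_⟩
  · show ch v0 (f 1) = _
    rw [map_one, ch_one dat0]; norm_num
  · show ch e2 (f 1) = _
    rw [map_one, ch_one datE2]; norm_num
  · show ch e3 (f 1) = _
    rw [map_one, ch_one datE3]; norm_num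
  · show al2 (f 1) = _
    rw [map_one, al2_one]
  · exact fun g => ⟨_, ch_eq dat0 (f g)⟩
  · exact fun g => ⟨_, ch_eq datE2 (f g)⟩
  · exact fun g => ⟨_, ch_eq datE3 (f g)⟩
  · intro g
    show (ch v0 (f g) ^ 2 + ch v0 (f (g * g))) / 2 = 1 + ch e2 (f g) + ch e3 (f g)
    rw [map_mul]
    exact sym2 (f g)
  · intro g
    show (ch v0 (f g) ^ 2 - ch v0 (f (g * g))) / 2 = al2 (f g)
    rw [map_mul]
    rfl

end Cfsg.Agent.H816.BT.Two
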